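import Groth.Agent.Lib.FpqcQuot14.Cov
import Groth.Agent.Lib.ShfQuot.CartesianQuot

/-!
Quotients of group schemes for the fpqc topology: fibres and transfer of properties.
-/

universe u

open CategoryTheory CategoryTheory.Limits MonoidalCategory CartesianMonoidalCategory MonObj GrpObj
open AlgebraicGeometry

namespace GrothLib.FpqcQuot14

variable {S : Scheme.{u}} {G G' Q : Over S} [GrpObj G] [GrpObj G'] {u : G' ⟶ G} [IsMonHom u] [Mono u]
  {p : G ⟶ Q} (hsq : IsPullback ((G ◁ u) ≫ μ[G]) (fst G G') p p)

omit [IsMonHom u] [Mono u] [GrpObj G'] in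
theorem lift_act {Y : Over S} (a : Y ⟶ G) (h : Y ⟶ G') :
    lift a h ≫ (G ◁ u) ≫ μ[G] = a * (h ≫ u) := by
  rw [← Category.assoc, Hom.mul_def]
  congr 1
  apply CartesianMonoidalCategory.hom_ext <;> simp

include hsq

omit [IsMonHom u] [Mono u] in
/-- Two points have the same image in the quotient exactly when they differ by the subgroup. -/
theorem comp_eq_iff {Y : Over S} (a b : Y ⟶ G) : a ≫ p = b ≫ p ↔ ∃ h : Y ⟶ G', b = a * (h ≫ u) := by
  constructor
  · intro hab
    let z := hsq.lift b a hab.symm
    refine ⟨z ≫ snd G G', ?_⟩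
    have h1 : z = lift a (z ≫ snd G G') := by
      apply CartesianMonoidalCategory.hom_ext
      · rw [lift_fst]; exact hsq.lift_snd b a hab.symm
      · rw [lift_snd]
    rw [← lift_act, ← h1]
    exact (hsq.lift_fst b a hab.symm).symm
  · rintro ⟨h, rfl⟩
    rw [← lift_act, Category.assoc, hsq.w, ← Category.assoc, lift_fst]

/-- The subgroup is the fibre of the unit of the quotient. -/
theorem isPullback_unit : IsPullback u (toUnit G') p (η[G] ≫ p) := by
  have hw : u ≫ p = toUnit G' ≫ η[G] ≫ p := by
    rw [← Category.assoc]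
    refine ((comp_eq_iff hsq (toUnit G' ≫ η[G]) u).2 ⟨𝟙 G', ?_⟩).symm
    rw [Category.id_comp, ← Hom.one_def, _root_.one_mul]
  have hex : ∀ s : PullbackCone p (η[G] ≫ p), ∃ h : s.pt ⟶ G', s.fst = 1 * (h ≫ u) := fun s => by
    refine (comp_eq_iff hsq _ _).1 ?_
    rw [s.condition, Hom.one_def, Category.assoc]
    congr 1
    exact toUnit_unique _ _
  choose l hl using hex
  refine ⟨⟨hw⟩, ⟨PullbackCone.IsLimit.mk _ l (fun s => ?_) (fun s => toUnit_unique _ _) (fun s m h1 _ => ?_)⟩⟩
  · rw [hl s, _root_.one_mul]
  · rw [← cancel_mono u, h1, hl s, _root_.one_mul]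

variable (hp : IsCov p.left)

omit [IsMonHom u] [Mono u] in
include hp in
/-- A property local for the fpqc topology passes from the subgroup to the projection. -/
theorem prop_proj (P : MorphismProperty Scheme.{u}) [P.IsStableUnderBaseChange] [IsZariskiLocalAtTarget P]
    (hP : P.DescendsAlong (@Surjective ⊓ @Flat ⊓ @QuasiCompact : MorphismProperty Scheme.{u}))
    (h : P G'.hom) : P p.left :=
  hp.descend P hP (hsq.map (Over.forget S)) (MorphismProperty.pullback_fst (P := P) G.hom G'.hom h)

/-- A property stable under base change passes from the projection to the subgroup. -/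
theorem prop_subgroup (P : MorphismProperty Scheme.{u}) [P.IsStableUnderBaseChange] (h : P p.left) :
    P G'.hom := by
  have h1 : P (toUnit G').left := MorphismProperty.of_isPullback ((isPullback_unit hsq).map (Over.forget S)) h
  rwa [Over.toUnit_left] at h1

end GrothLib.FpqcQuot14
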