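import Groth.Agent.Lib.FpqcQuot14.Quot
import Groth.Agent.Lib.AlgSp.SourceLocal
import Groth.Agent.Lib.AlgSp.FpqcProps
import Groth.Agent.Lib.GrpdQuot.QuotCriteria
import Groth.Agent.Lib.EtSite.FpqcDescent
import Groth.Agent.Lib.RedSub.Basic

/-!
Properties descending along coverings.
-/

universe u

open CategoryTheory CategoryTheory.Limits AlgebraicGeometry Topology

set_option backward.isDefEq.respectTransparency.types false

namespace GrothLib.FpqcQuot14

variable {X Y Z : Scheme.{u}} {p : X ⟶ Y}

theorem IsCov.flat_iff (hp : IsCov p) [Flat p] (f : Y ⟶ Z) : Flat f ↔ Flat (p ≫ f) :=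
  ⟨fun _ => inferInstance, fun h => GrothLib.AlgSp.srcDescends_flat p f ‹_› hp.surjective h⟩

theorem IsCov.isReduced (hp : IsCov p) [IsReduced X] : IsReduced Y := by
  let I := Scheme.IdealSheafData.vanishingIdeal (X := Y) ⊤
  let i := I.subschemeι
  haveI : IsReduced I.subscheme := GrothLib.RedSub.isReduced_subscheme_vanishingIdeal ⊤
  have hr : Set.range i = Set.univ := by
    rw [GrothLib.RedSub.range_subschemeι_vanishingIdeal]
    rfl
  obtain ⟨l, hl⟩ : ∃ l, l ≫ i = p := GrothLib.RedSub.exists_lift p i (by rw [hr]; exact Set.subset_univ _)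
  have hs : IsClosedImmersion (pullback.snd i p) := MorphismProperty.pullback_snd _ _ inferInstance
  have hsec : pullback.lift l (𝟙 X) (by rw [hl, Category.id_comp]) ≫ pullback.snd i p = 𝟙 X :=
    pullback.lift_snd _ _ _
  haveI : IsSplitEpi (pullback.snd i p) := ⟨⟨⟨_, hsec⟩⟩⟩
  haveI : IsIso (pullback.snd i p) := isIso_of_mono_of_isSplitEpi _
  haveI : IsIso i := hp.descend (MorphismProperty.isomorphisms Scheme.{u}) inferInstance
    (IsPullback.of_hasPullback i p) (inferInstanceAs (IsIso _))
  exact isReduced_of_isOpenImmersion (inv i)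

/-- Unramified morphisms descend along fppf coverings of the source. -/
theorem formallyUnramified_of_comp {c : X ⟶ Y} (f : Y ⟶ Z) [Flat c] [LocallyOfFinitePresentation c]
    [Surjective c] [LocallyOfFiniteType f] [FormallyUnramified (c ≫ f)] : FormallyUnramified f := by
  haveI : LocallyOfFiniteType (c ≫ f) := inferInstance
  let m : pullback (c ≫ f) (c ≫ f) ⟶ pullback f f :=
    pullback.map _ _ _ _ c c (𝟙 Z) (by simp) (by simp)
  have e : c ≫ pullback.diagonal f = pullback.diagonal (c ≫ f) ≫ m := by
    apply pullback.hom_ext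
    · rw [Category.assoc, Category.assoc, pullback.diagonal_fst, Category.comp_id, pullback.lift_fst,
        pullback.diagonal_fst_assoc]
    · rw [Category.assoc, Category.assoc, pullback.diagonal_snd, Category.comp_id, pullback.lift_snd,
        pullback.diagonal_snd_assoc]
  have : Flat m := MorphismProperty.pullbackMap (P := @Flat) ‹Flat c› ‹Flat c› rfl rfl
  have : Flat (pullback.diagonal f) := by
    refine GrothLib.AlgSp.srcDescends_flat c _ ‹_› ‹_› ?_
    rw [e]
    infer_instance
  have : LocallyOfFinitePresentation (pullback.diagonal f) :=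
    GrothLib.DiagGrp.lfp_of_comp_of_lft _ (pullback.fst f f) (by rw [pullback.diagonal_fst]; infer_instance)
      inferInstance
  have : IsOpenImmersion (pullback.diagonal f) := IsOpenImmersion.of_flat_of_mono _
  infer_instance

/-- Local quasi-finiteness descends along open surjections of the source. -/
theorem locallyQuasiFinite_of_comp {c : X ⟶ Y} (f : Y ⟶ Z) [Flat c] [LocallyOfFinitePresentation c]
    [Surjective c] [LocallyOfFiniteType f] [LocallyQuasiFinite (c ≫ f)] : LocallyQuasiFinite f := by
  rw [locallyQuasiFinite_iff_isDiscrete_preimage_singleton]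
  intro z
  have hd := Scheme.Hom.isDiscrete_preimage_singleton (c ≫ f) z
  rw [isDiscrete_iff_discreteTopology] at hd ⊢
  let r : ↥(⇑(c ≫ f) ⁻¹' {z}) → ↥(⇑f ⁻¹' {z}) := Set.restrictPreimage (⇑f ⁻¹' {z}) c
  have hr : IsOpenMap r := c.isOpenMap.restrictPreimage _
  refine discreteTopology_iff_isOpen_singleton.2 fun y => ?_
  obtain ⟨x, hx⟩ := c.surjective y.1
  let x' : ↥(⇑(c ≫ f) ⁻¹' {z}) := ⟨x, by
    show f (c x) = z
    rw [hx]; exact y.2⟩
  rw [show ({y} : Set ↥(⇑f ⁻¹' {z})) = r '' {x'} by rw [Set.image_singleton]; exact congrArg _ (Subtype.ext hx.symm)]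
  exact hr _ (isOpen_discrete _)

end GrothLib.FpqcQuot14
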