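import Mathlib.AlgebraicGeometry.Sites.Fpqc
import Mathlib.CategoryTheory.Monoidal.Cartesian.Over
import Mathlib.CategoryTheory.Monoidal.Cartesian.Grp
import Mathlib.CategoryTheory.Limits.Constructions.Over.Connected
import Groth.Agent.Lib.FpqcCov.Basic

/-!
Morphisms which are coverings for the fpqc topology, with a flat refinement.
-/

universe u

open CategoryTheory CategoryTheory.Limits MonoidalCategory CartesianMonoidalCategory AlgebraicGeometry

namespace GrothLib.FpqcQuot14

/-- Some flat surjection forming a quasi-compact cover factors through `p`. -/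
def IsCov {X Y : Scheme.{u}} (p : X ⟶ Y) : Prop :=
  ∃ (Z : Scheme.{u}) (q : Z ⟶ Y) (r : Z ⟶ X), r ≫ p = q ∧ Surjective q ∧ Flat q ∧
    QuasiCompactCover (PreZeroHypercover.singleton.{0} q)

variable {X Y : Scheme.{u}} {p : X ⟶ Y}

theorem isCov_of_image
    (h : ∃ (Z : Scheme.{u}) (q : Z ⟶ Y) (r : Z ⟶ X), r ≫ p = q ∧ Surjective q ∧ Flat q ∧
      ∀ V : Y.Opens, IsAffineOpen V → ∃ W : Z.Opens, IsCompact (W : Set Z) ∧ q.base '' (W : Set Z) = (V : Set Y)) :
    IsCov p := by
  obtain ⟨Z, q, r, h1, h2, h3, h4⟩ := h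
  refine ⟨Z, q, r, h1, h2, h3, ⟨fun {U} hU => ?_⟩⟩
  obtain ⟨W, hW, himg⟩ := h4 U hU
  exact IsCompactOpenCovered.iff_of_unique.mpr ⟨W, hW, himg⟩

theorem isCov_id (X : Scheme.{u}) : IsCov (𝟙 X) :=
  isCov_of_image ⟨X, 𝟙 X, 𝟙 X, Category.comp_id _, inferInstance, inferInstance, fun V hV =>
    ⟨V, hV.isCompact, by simp⟩⟩

theorem IsCov.surjective (h : IsCov p) : Surjective p := by
  obtain ⟨Z, q, r, h1, h2, -, -⟩ := h
  haveI : Surjective (r ≫ p) := h1 ▸ h2
  exact Surjective.of_comp r p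

theorem IsCov.of_isPullback {X' Y' : Scheme.{u}} {p' : X' ⟶ Y'} {a : Y' ⟶ Y} {b : X' ⟶ X}
    (h : IsCov p) (sq : IsPullback p' b a p) : IsCov p' := by
  obtain ⟨Z, q, r, h1, h2, h3, h4⟩ := h
  haveI := h2
  haveI := h3
  haveI := h4
  exact ⟨pullback a q, pullback.fst a q,
    sq.lift (pullback.fst a q) (pullback.snd a q ≫ r) (by rw [Category.assoc, h1, pullback.condition]),
    sq.lift_fst _ _ _, inferInstance, inferInstance,
    inferInstanceAs (QuasiCompactCover ((PreZeroHypercover.singleton.{0} q).pullback₁ a))⟩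

theorem IsCov.comp {Z : Scheme.{u}} {p' : Y ⟶ Z} (h : IsCov p) (h' : IsCov p') : IsCov (p ≫ p') := by
  obtain ⟨Z₂, q₂, r₂, e₂, s₂, f₂, c₂⟩ := h'
  obtain ⟨Z₁, q₁, r₁, e₁, s₁, f₁, c₁⟩ := h
  haveI := s₁
  haveI := s₂
  haveI := f₁
  haveI := f₂
  refine ⟨pullback r₂ q₁, pullback.fst r₂ q₁ ≫ q₂, pullback.snd r₂ q₁ ≫ r₁, ?_, inferInstance, inferInstance, ?_⟩
  · rw [Category.assoc, ← Category.assoc r₁, e₁, ← Category.assoc, ← pullback.condition, Category.assoc, e₂]
  · haveI : QuasiCompactCover (PreZeroHypercover.singleton.{0} (pullback.fst r₂ q₁)) :=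
      inferInstanceAs (QuasiCompactCover ((PreZeroHypercover.singleton.{0} q₁).pullback₁ r₂))
    haveI := c₂
    let B := (PreZeroHypercover.singleton.{0} q₂).bind fun _ =>
      PreZeroHypercover.singleton.{0} (pullback.fst r₂ q₁)
    haveI : QuasiCompactCover B :=
      @QuasiCompactCover.instBindScheme _ (PreZeroHypercover.singleton.{0} q₂) _
        (fun _ => PreZeroHypercover.singleton.{0} (pullback.fst r₂ q₁))
        (fun _ => inferInstanceAs (QuasiCompactCover (PreZeroHypercover.singleton.{0} (pullback.fst r₂ q₁))))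
    exact QuasiCompactCover.of_hom (𝒱 := B) ⟨fun _ => PUnit.unit, fun _ => 𝟙 _, fun _ => Category.id_comp _⟩

/-- Properties local for the fpqc topology descend along coverings. -/
theorem IsCov.descend (P : MorphismProperty Scheme.{u}) [P.IsStableUnderBaseChange] [IsZariskiLocalAtTarget P]
    (hP : P.DescendsAlong (@Surjective ⊓ @Flat ⊓ @QuasiCompact : MorphismProperty Scheme.{u}))
    (h : IsCov p) {A A' : Scheme.{u}} {f : A ⟶ Y} {f' : A' ⟶ X} {g : A' ⟶ A}
    (sq : IsPullback g f' f p) (hf : P f') : P f := by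
  obtain ⟨Z, q, r, h1, h2, h3, h4⟩ := h
  haveI := h4
  refine GrothLib.FpqcCov.of_fpqc P hP f (PreZeroHypercover.singleton.{0} q) (fun _ => h3) fun _ => ?_
  change P (pullback.snd f q)
  let l : pullback f q ⟶ A' := sq.lift (pullback.fst f q) (pullback.snd f q ≫ r)
    (by rw [Category.assoc, h1, pullback.condition])
  have sq' : IsPullback l (pullback.snd f q) f' r := by
    refine IsPullback.of_right (h₁₂ := g) (v₁₃ := f) (h₂₂ := p) ?_ (sq.lift_snd _ _ _) sq
    rw [sq.lift_fst, h1]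
    exact IsPullback.of_hasPullback f q
  exact MorphismProperty.of_isPullback sq' hf

theorem IsCov.effectiveEpi_flat (h : IsCov p) : ∃ (Z : Scheme.{u}) (q : Z ⟶ Y) (r : Z ⟶ X), r ≫ p = q ∧
    ∀ {Y' Z' : Scheme.{u}} {q' : Z' ⟶ Y'} {a : Y' ⟶ Y} {b : Z' ⟶ Z}, IsPullback q' b a q → EffectiveEpi q' := by
  obtain ⟨Z, q, r, h1, h2, h3, h4⟩ := h
  refine ⟨Z, q, r, h1, fun {Y' Z' q' a b} sq => ?_⟩
  have hmem : Presieve.singleton q ∈ Scheme.fpqcPrecoverage Y := by
    refine ⟨?_, ?_⟩
    · rw [← PreZeroHypercover.presieve₀_singleton, Scheme.presieve₀_mem_qcPrecoverage_iff]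
      exact h4
    · rw [Scheme.singleton_mem_precoverage_iff]
      exact ⟨q.surjective, h3⟩
  have hp : Presieve.singleton q' ∈ Scheme.fpqcPrecoverage Y' := by
    rw [← Presieve.ofArrows_pUnit.{0}] at hmem ⊢
    exact Precoverage.mem_coverings_of_isPullback _ hmem a _ (fun _ => b) fun _ => sq
  rw [← Sieve.effectiveEpimorphic_singleton, Presieve.EffectiveEpimorphic.iff_forall_isSheafFor_yoneda]
  intro T
  exact (GrothendieckTopology.Subcanonical.isSheaf_of_isRepresentable _).isSheafFor _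
    (Precoverage.generate_mem_toGrothendieck hp)

theorem IsCov.epi (h : IsCov p) : Epi p := by
  obtain ⟨Z, q, r, h1, hq⟩ := h.effectiveEpi_flat
  haveI : EffectiveEpi q := hq (IsPullback.of_id_snd : IsPullback q (𝟙 Z) (𝟙 Y) q)
  haveI : Epi (r ≫ p) := by rw [h1]; infer_instance
  exact epi_of_epi r p

/-- Descent of morphisms along a covering. -/
theorem IsCov.desc (h : IsCov p) {T : Scheme.{u}} (e : X ⟶ T)
    (he : ∀ {W : Scheme.{u}} (a b : W ⟶ X), a ≫ p = b ≫ p → a ≫ e = b ≫ e) : ∃ d : Y ⟶ T, p ≫ d = e := by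
  obtain ⟨Z, q, r, h1, hq⟩ := h.effectiveEpi_flat
  haveI : EffectiveEpi q := hq (IsPullback.of_id_snd : IsPullback q (𝟙 Z) (𝟙 Y) q)
  haveI : EffectiveEpi (pullback.fst p q) := hq (IsPullback.of_hasPullback p q)
  refine ⟨EffectiveEpi.desc q (r ≫ e) fun {W} a b hab => ?_, ?_⟩
  · rw [← Category.assoc, ← Category.assoc]
    refine he _ _ ?_
    rw [Category.assoc, Category.assoc, h1, hab]
  · rw [← cancel_epi (pullback.fst p q), pullback.condition_assoc, EffectiveEpi.fac, ← Category.assoc]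
    refine (he _ _ ?_).symm
    rw [Category.assoc, h1, pullback.condition]

section Over

variable {S : Scheme.{u}} {A B C : Over S}

theorem isPullback_whiskerRight (f : A ⟶ B) (C : Over S) :
    IsPullback (fst A C) (f ▷ C) f (fst B C) :=
  ⟨⟨(whiskerRight_fst f C).symm⟩, ⟨PullbackCone.IsLimit.mk _
    (fun s => lift s.fst (s.snd ≫ snd B C)) (fun s => lift_fst _ _)
    (fun s => by
      apply CartesianMonoidalCategory.hom_ext
      · simpa using s.condition
      · simp)
    (fun s m h1 h2 => by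
      apply CartesianMonoidalCategory.hom_ext
      · rw [lift_fst]; exact h1
      · rw [lift_snd, ← h2, Category.assoc, whiskerRight_snd])⟩⟩

theorem isPullback_whiskerLeft (f : A ⟶ B) (C : Over S) :
    IsPullback (snd C A) (C ◁ f) f (snd C B) :=
  ⟨⟨(whiskerLeft_snd C f).symm⟩, ⟨PullbackCone.IsLimit.mk _
    (fun s => lift (s.snd ≫ fst C B) s.fst) (fun s => lift_snd _ _)
    (fun s => by
      apply CartesianMonoidalCategory.hom_ext
      · simp
      · simpa using s.condition)
    (fun s m h1 h2 => by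
      apply CartesianMonoidalCategory.hom_ext
      · rw [lift_fst, ← h2, Category.assoc, whiskerLeft_fst]
      · rw [lift_snd]; exact h1)⟩⟩

theorem IsCov.whiskerRight {f : A ⟶ B} (h : IsCov f.left) (C : Over S) : IsCov (f ▷ C).left :=
  h.of_isPullback ((isPullback_whiskerRight f C).map (Over.forget S)).flip

theorem IsCov.whiskerLeft {f : A ⟶ B} (h : IsCov f.left) (C : Over S) : IsCov (C ◁ f).left :=
  h.of_isPullback ((isPullback_whiskerLeft f C).map (Over.forget S)).flip

theorem IsCov.tensor {D : Over S} {f : A ⟶ B} {g : C ⟶ D} (hf : IsCov f.left) (hg : IsCov g.left) :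
    IsCov (f ⊗ₘ g).left := by
  rw [MonoidalCategory.tensorHom_def, Over.comp_left]
  exact (hf.whiskerRight C).comp (hg.whiskerLeft B)

theorem IsCov.epi_over {f : A ⟶ B} (h : IsCov f.left) : Epi f :=
  (Over.forget S).epi_of_epi_map (show Epi f.left from h.epi)

/-- Descent of morphisms over the base along a covering. -/
theorem IsCov.desc_over {f : A ⟶ B} (hf : IsCov f.left) (e : A ⟶ C)
    (h : ∀ {W : Over S} (a b : W ⟶ A), a ≫ f = b ≫ f → a ≫ e = b ≫ e) : ∃ d : B ⟶ C, f ≫ d = e := by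
  obtain ⟨d, hd⟩ := hf.desc e.left fun {W} a b hab => by
    have hw : a ≫ A.hom = b ≫ A.hom := by
      rw [← Over.w f, ← Category.assoc, ← Category.assoc, hab]
    exact congrArg Over.Hom.left (h (W := Over.mk (a ≫ A.hom)) (Over.homMk a rfl) (Over.homMk b hw.symm)
      (Over.OverMorphism.ext hab))
  refine ⟨Over.homMk d ?_, Over.OverMorphism.ext hd⟩
  haveI := hf.epi
  rw [← cancel_epi f.left, ← Category.assoc, hd, Over.w e, Over.w f]

end Over

end GrothLib.FpqcQuot14
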