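import Mathlib
import Groth.Agent.Lib.FpqcQuot14.Quot

/-!
The group law on the quotient by a normal subgroup for the fpqc topology.
-/

universe u

open CategoryTheory CategoryTheory.Limits MonoidalCategory CartesianMonoidalCategory MonObj GrpObj
open AlgebraicGeometry

namespace GrothLib.FpqcQuot14

open GrothLib.CartQuot (comp_μ comp_η)

variable {S : Scheme.{u}}

theorem IsCov.id_over (A : Over S) : IsCov (𝟙 A : A ⟶ A).left := isCov_id A.left

variable {G H Q : Over S} [GrpObj G] [GrpObj H] (u : H ⟶ G) [IsMonHom u] (π : G ⟶ Q) [Epi π]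
  (hπ : IsCov π.left)
  (hker : ∀ {Y : Over S} (a b : Y ⟶ G), a ≫ π = b ≫ π ↔ ∃ h : Y ⟶ H, b = a * (h ≫ u))

include hπ hker

theorem existsUnique_grpObj
    (hn : ∀ (Y : Over S) (g : Y ⟶ G) (h : Y ⟶ H), ∃ h' : Y ⟶ H, g * (h ≫ u) * g⁻¹ = h' ≫ u) :
    ∃! str : GrpObj Q, @IsMonHom (Over S) _ _ G Q _ str.toMonObj π := by
  haveI : Epi (π ⊗ₘ π) := (hπ.tensor hπ).epi_over
  obtain ⟨m, hm⟩ := (hπ.tensor hπ).desc_over (μ[G] ≫ π) (fun {W} a b hab => by
    obtain ⟨h, hh⟩ := (hker (a ≫ fst G G) (b ≫ fst G G)).1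
      (by simpa using congrArg (· ≫ fst _ _) hab)
    obtain ⟨k, hk⟩ := (hker (a ≫ snd G G) (b ≫ snd G G)).1
      (by simpa using congrArg (· ≫ snd _ _) hab)
    obtain ⟨h', hh'⟩ := hn _ (a ≫ snd G G)⁻¹ h
    rw [← Category.assoc, ← Category.assoc, hker]
    refine ⟨h' * k, ?_⟩
    rw [comp_μ, comp_μ, hh, hk, MonObj.mul_comp, ← hh']
    group)
  obtain ⟨n, hn'⟩ := hπ.desc_over (GrpObj.inv ≫ π) (fun {W} a b hab => by
    obtain ⟨h, hh⟩ := (hker a b).1 hab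
    obtain ⟨h', hh'⟩ := hn _ a h⁻¹
    rw [← Category.assoc, ← Category.assoc, hker, ← Hom.inv_def, ← Hom.inv_def]
    refine ⟨h', ?_⟩
    rw [hh, ← hh', GrpObj.inv_comp]
    group)
  have hel : ∀ {Y : Over S} (a b : Y ⟶ G), lift (a ≫ π) (b ≫ π) ≫ m = (a * b) ≫ π := fun a b => by
    rw [Hom.mul_def, Category.assoc, ← hm, lift_map_assoc]
  have h1 : ((η[G] ≫ π) ▷ Q) ≫ m = (λ_ Q).hom := by
    haveI : Epi (𝟙 (𝟙_ (Over S)) ⊗ₘ π) := ((IsCov.id_over _).tensor hπ).epi_over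
    rw [← cancel_epi (𝟙 (𝟙_ (Over S)) ⊗ₘ π),
      show (λ_ Q).hom = snd (𝟙_ (Over S)) Q from leftUnitor_hom Q, tensorHom_snd]
    calc (𝟙 (𝟙_ (Over S)) ⊗ₘ π) ≫ ((η[G] ≫ π) ▷ Q) ≫ m
        = lift ((fst _ _ ≫ η[G]) ≫ π) (snd _ _ ≫ π) ≫ m := by
          rw [← Category.assoc]; congr 1
          apply CartesianMonoidalCategory.hom_ext <;> simp [show fst (𝟙_ (Over S)) G = toUnit _ from toUnit_unique _ _, leftUnitor_hom]
      _ = _ := by rw [hel, comp_η, _root_.one_mul]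
  have h2 : (Q ◁ (η[G] ≫ π)) ≫ m = (ρ_ Q).hom := by
    haveI : Epi (π ⊗ₘ 𝟙 (𝟙_ (Over S))) := (hπ.tensor (IsCov.id_over _)).epi_over
    rw [← cancel_epi (π ⊗ₘ 𝟙 (𝟙_ (Over S))),
      show (ρ_ Q).hom = fst Q (𝟙_ (Over S)) from rightUnitor_hom Q, tensorHom_fst]
    calc (π ⊗ₘ 𝟙 (𝟙_ (Over S))) ≫ (Q ◁ (η[G] ≫ π)) ≫ m
        = lift (fst _ _ ≫ π) ((snd _ _ ≫ η[G]) ≫ π) ≫ m := by
          rw [← Category.assoc]; congr 1
          apply CartesianMonoidalCategory.hom_ext <;> simp [show snd G (𝟙_ (Over S)) = toUnit _ from toUnit_unique _ _, rightUnitor_hom]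
      _ = _ := by rw [hel, comp_η, _root_.mul_one]
  have h3 : (m ▷ Q) ≫ m = (α_ Q Q Q).hom ≫ (Q ◁ m) ≫ m := by
    haveI : Epi ((π ⊗ₘ π) ⊗ₘ π) := ((hπ.tensor hπ).tensor hπ).epi_over
    rw [← cancel_epi ((π ⊗ₘ π) ⊗ₘ π)]
    calc ((π ⊗ₘ π) ⊗ₘ π) ≫ (m ▷ Q) ≫ m
        = lift (lift ((fst _ _ ≫ fst G G) ≫ π) ((fst _ _ ≫ snd G G) ≫ π) ≫ m) (snd _ _ ≫ π) ≫ m := by
          rw [← Category.assoc]; congr 1
          apply CartesianMonoidalCategory.hom_ext
          · simp only [Category.assoc, whiskerRight_fst, lift_fst, tensorHom_fst_assoc]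
            rw [← Category.assoc]; congr 1; apply CartesianMonoidalCategory.hom_ext <;> simp
          · simp
      _ = ((fst _ _ ≫ fst G G) * (fst _ _ ≫ snd G G) * snd _ _) ≫ π := by rw [hel, hel]
      _ = ((fst _ _ ≫ fst G G) * ((fst _ _ ≫ snd G G) * snd _ _)) ≫ π := by rw [_root_.mul_assoc]
      _ = lift ((fst _ _ ≫ fst G G) ≫ π) (lift ((fst _ _ ≫ snd G G) ≫ π) (snd _ _ ≫ π) ≫ m) ≫ m := by
          rw [hel, hel]
      _ = ((π ⊗ₘ π) ⊗ₘ π) ≫ (α_ Q Q Q).hom ≫ (Q ◁ m) ≫ m := by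
          rw [← Category.assoc ((α_ Q Q Q).hom), ← Category.assoc]; congr 1
          apply CartesianMonoidalCategory.hom_ext
          · simp
          · simp only [Category.assoc, whiskerLeft_snd, lift_snd]
            simp only [← Category.assoc]; congr 1; apply CartesianMonoidalCategory.hom_ext <;> simp
  have h4 : lift n (𝟙 Q) ≫ m = toUnit _ ≫ η[G] ≫ π := by
    rw [← cancel_epi π, comp_lift_assoc, hn', Category.comp_id, ← Category.id_comp π, ← Category.assoc,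
      hel, Category.comp_id, ← GrpObj.inv_eq_inv.symm, inv_mul_cancel, comp_toUnit_assoc,
      ← Category.assoc, comp_η, Category.id_comp]
  have h5 : lift (𝟙 Q) n ≫ m = toUnit _ ≫ η[G] ≫ π := by
    rw [← cancel_epi π, comp_lift_assoc, hn', Category.comp_id, ← Category.id_comp π, ← Category.assoc,
      hel, Category.comp_id, GrpObj.inv_eq_inv, mul_inv_cancel, comp_toUnit_assoc,
      ← Category.assoc, comp_η, Category.id_comp]
  let str : GrpObj Q := { one := η[G] ≫ π, mul := m, inv := n, one_mul := h1, mul_one := h2,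
                          mul_assoc := h3, left_inv := h4, right_inv := h5 }
  refine ⟨str, @IsMonHom.mk (Over S) _ _ G Q _ str.toMonObj π rfl hm.symm, fun str' hstr => ?_⟩
  refine GrpObj.ext _ _ (MonObj.ext _ _ ?_)
  exact (cancel_epi (π ⊗ₘ π)).1
    (((@IsMonHom.mul_hom (Over S) _ _ G Q _ str'.toMonObj π hstr).symm).trans hm.symm)

end GrothLib.FpqcQuot14
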